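import Groth.Agent.Lib.NFlatFormalH7.Model
import Groth.Agent.Lib.LocCoh.PunctSec27
import Groth.Agent.Lib.GExistH7.Sys

/-!
# Coherent formal systems on a punctured affine scheme come from systems of finite modules
-/

set_option autoImplicit false
set_option linter.style.haveILetI false
set_option backward.isDefEq.respectTransparency false
set_option backward.isDefEq.respectTransparency.types false

universe u

open CategoryTheory CategoryTheory.Limits AlgebraicGeometry Opposite

noncomputable section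

namespace Groth.Agent.PunctModH7

open Groth.Agent Groth.Agent.GExistH7 Groth.Agent.FormalH7 Groth.Agent.NFlatFormalH7
open Groth.Agent.ComplFormalH7 (PU secF tR isQuot_iso_comp secF_map_smulMod)
open Groth.Agent.LocCohSheafLib Groth.Agent.InjHullLib

variable {A : Type u} [CommRing A] {a : Ideal A}

section criterion

variable {M N : ModuleCat.{u} (CommRingCat.of A)} (φ : M ⟶ N)

variable (a) in
/-- Bijective up to torsion. -/
def TorIso : Prop :=
  (∀ x : M, φ.hom x = 0 → ∃ m : ℕ, ∀ r ∈ a ^ m, r • x = 0) ∧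
    ∀ y : N, ∃ m : ℕ, ∀ r ∈ a ^ m, r • y ∈ LinearMap.range φ.hom

theorem bijective_localized (h : TorIso a φ) {g : A} (hg : g ∈ a) :
    Function.Bijective (LocalizedModule.map (Submonoid.powers g) φ.hom) := by
  refine ⟨?_, fun z => ?_⟩
  · rw [injective_iff_map_eq_zero]
    intro z hz
    induction z using LocalizedModule.induction_on with
    | h x s =>
      rw [LocalizedModule.map_mk, ← LocalizedModule.zero_mk s, LocalizedModule.mk_eq] at hz
      obtain ⟨⟨_, k, rfl⟩, hk⟩ := hz
      simp only [smul_zero, Submonoid.smul_def] at hk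
      rw [← map_smul, ← map_smul] at hk
      obtain ⟨m, hm⟩ := h.1 _ hk
      rw [← LocalizedModule.zero_mk s, LocalizedModule.mk_eq]
      refine ⟨⟨g ^ m * g ^ k, Submonoid.mul_mem _ ⟨m, rfl⟩ ⟨k, rfl⟩⟩, ?_⟩
      simp only [smul_zero, Submonoid.smul_def]
      rw [mul_smul]
      exact hm (g ^ m) (Ideal.pow_mem_pow hg m)
  · induction z using LocalizedModule.induction_on with
    | h y s =>
      obtain ⟨m, hm⟩ := h.2 y
      obtain ⟨x, hx⟩ := hm (g ^ m) (Ideal.pow_mem_pow hg m)
      refine ⟨LocalizedModule.mk x (s * ⟨g ^ m, m, rfl⟩), ?_⟩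
      rw [LocalizedModule.map_mk, hx, LocalizedModule.mk_eq]
      exact ⟨1, by simp [Submonoid.smul_def, mul_smul]⟩

variable [IsNoetherianRing A]

theorem isIso_tR_map (h : TorIso a φ) : IsIso ((tR a).map φ) := by
  obtain ⟨gs, hgs⟩ := (IsNoetherian.noetherian a : a.FG)
  exact PunctFree27.isIso_restrict_tilde_map (I := a) φ gs hgs fun g hg =>
    bijective_localized φ h (hgs ▸ Submodule.subset_span hg)

theorem torIso_of_isIso (h : IsIso ((tR a).map φ)) : TorIso a φ := by
  have hW : (LocCoh.puncturedOpen A a).ι ''ᵁ ⊤ = LocCoh.puncturedOpen A a := Scheme.Opens.ι_image_top _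
  have hb : Function.Bijective (secMap φ.hom ((LocCoh.puncturedOpen A a).ι ''ᵁ ⊤)) := by
    let i := asIso ((tR a).map φ)
    refine Function.bijective_iff_has_inverse.2 ⟨i.inv.app ⊤, fun s => ?_, fun s => ?_⟩
    · exact congrArg (fun k => k.app ⊤ s) i.hom_inv_id
    · exact congrArg (fun k => k.app ⊤ s) i.inv_hom_id
  rw [hW] at hb
  refine ⟨fun x hx => ?_, fun y => ?_⟩
  · refine mem_powTors_iff.1 ((toS_eq_zero_iff a x).1 (hb.1 ?_))
    rw [secMap_toS, hx, map_zero, map_zero]
  · obtain ⟨s, hs⟩ := hb.2 (toS (R := A) N (LocCoh.puncturedOpen A a) y)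
    obtain ⟨n, hn⟩ := exists_pow_smul_eq_toS a s
    obtain ⟨gs, hgs⟩ := (IsNoetherian.noetherian a : a.FG)
    have hk : ∀ r ∈ a, ∃ k : ℕ, r ^ k ∈ (LinearMap.range φ.hom).colon {y} := fun r hr => by
      obtain ⟨u, hu⟩ := hn (r ^ n) (Ideal.pow_mem_pow hr n)
      have h0 : toS N (LocCoh.puncturedOpen A a) (φ.hom u - r ^ n • y) = 0 := by
        rw [map_sub, ← secMap_toS, hu, map_smul, hs, map_smul, sub_self]
      obtain ⟨k, hk⟩ := mem_powTors_iff.1 ((toS_eq_zero_iff a _).1 h0)
      have h1 := hk (r ^ k) (Ideal.pow_mem_pow hr k)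
      rw [smul_sub, sub_eq_zero, smul_smul, ← map_smul, ← pow_add] at h1
      exact ⟨k + n, Submodule.mem_colon_singleton.2 ⟨_, h1⟩⟩
    obtain ⟨m, hm⟩ := Ideal.exists_pow_le_of_le_radical_of_fg (I := a)
      (J := (LinearMap.range φ.hom).colon {y}) hk (IsNoetherian.noetherian a)
    exact ⟨m, fun r hr => Submodule.mem_colon_singleton.1 (hm hr)⟩

end criterion

variable (a) in
/-- Sections and the sheaf functor. -/
def adjT : tR a ⊣ secF a :=
  (tilde.adjunction (R := CommRingCat.of A)).comp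
    (Scheme.Modules.restrictAdjunction (LocCoh.puncturedOpen A a).ι)

variable [IsNoetherianRing A]

theorem isIso_counit (G : (PU a).Modules) (hG : Coh.IsQCoh G) : IsIso ((adjT a).counit.app G) := by
  haveI := PunctFree27.quasiCompact_puncturedOpen a (IsNoetherian.noetherian a)
  exact ComplFormalH7.isIso_epsR (R := CommRingCat.of A) (LocCoh.puncturedOpen A a) G hG

theorem exists_torIso_finite (G : (PU a).Modules) (hG : Coh.IsCoh G) :
    ∃ P : Submodule A ((secF a).obj G), Module.Finite A P ∧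
      ∀ y : (secF a).obj G, ∃ m : ℕ, ∀ r ∈ a ^ m, r • y ∈ P := by
  obtain ⟨N, hN, ⟨e⟩⟩ := PunctFree27.exists_finite_model a G hG
  let j : N ⟶ (secF a).obj G := (adjT a).homEquiv N G e.hom
  haveI := isIso_counit G hG.1
  haveI : IsIso ((tR a).map j ≫ (adjT a).counit.app G) := by
    have h : (tR a).map j ≫ (adjT a).counit.app G = e.hom :=
      ((adjT a).homEquiv_counit N G j).symm.trans (((adjT a).homEquiv N G).symm_apply_apply e.hom)
    rw [h]
    exact inferInstanceAs (IsIso e.hom)
  haveI : IsIso ((tR a).map j) := IsIso.of_isIso_comp_right _ ((adjT a).counit.app G)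
  exact ⟨LinearMap.range j.hom, inferInstance, (torIso_of_isIso j inferInstance).2⟩

variable {I : Ideal A} {F : ℕᵒᵖ ⥤ (PU a).Modules}

/-- The transition map on sections. -/
abbrev tr (F : ℕᵒᵖ ⥤ (PU a).Modules) (n : ℕ) :
    (secF a).obj (F.obj (op (n + 1))) →ₗ[A] (secF a).obj (F.obj (op n)) :=
  ((secF a).map (F.map (homOfLE (Nat.le_succ n)).op)).hom

/-- A downward compatible family of finite submodules. -/
def sub (P : ∀ n, Submodule A ((secF a).obj (F.obj (op n)))) : ∀ n, Submodule A ((secF a).obj (F.obj (op n)))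
  | 0 => P 0
  | n + 1 => P (n + 1) ⊓ (sub P n).comap (tr F n)

theorem exists_models (hc : ∀ n, Coh.IsCoh (F.obj (op n))) :
    ∃ M : ∀ n, Submodule A ((secF a).obj (F.obj (op n))),
      (∀ n, Module.Finite A (M n)) ∧ (∀ n, ∀ x ∈ M (n + 1), tr F n x ∈ M n) ∧
      ∀ n (y : (secF a).obj (F.obj (op n))), ∃ m : ℕ, ∀ r ∈ a ^ m, r • y ∈ M n := by
  choose P hP hPt using fun n => exists_torIso_finite (F.obj (op n)) (hc n)
  refine ⟨sub P, fun n => ?_, fun n x hx => hx.2, fun n => ?_⟩
  · cases n with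
    | zero => exact hP 0
    | succ n =>
      haveI := hP (n + 1)
      exact Module.Finite.of_injective (Submodule.inclusion (inf_le_left : sub P (n + 1) ≤ P (n + 1)))
        (Submodule.inclusion_injective _)
  · induction n with
    | zero => exact hPt 0
    | succ n ih =>
      intro y
      obtain ⟨m, hm⟩ := hPt (n + 1) y
      obtain ⟨m', hm'⟩ := ih (tr F n y)
      exact ⟨m + m', fun r hr => ⟨hm r (Ideal.pow_le_pow_right (Nat.le_add_right _ _) hr),
        show tr F n (r • y) ∈ sub P n by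
          rw [map_smul]; exact hm' r (Ideal.pow_le_pow_right (Nat.le_add_left _ _) hr)⟩⟩

/-- Coherent systems on the punctured scheme come from systems of finite modules. -/
theorem exists_module_system (hF : Formal.IsCohFormal I F) :
    ∃ (M : ℕ → Type u) (_ : ∀ n, AddCommGroup (M n)) (_ : ∀ n, Module A (M n)) (g : ∀ n, M (n + 1) →ₗ[A] M n),
      (∀ n, Module.Finite A (M n)) ∧ (∀ n, I ^ (n + 1) • (⊤ : Submodule A (M n)) = ⊥) ∧
      (∀ n (x : M (n + 1)), g n x = 0 → ∃ m : ℕ, ∀ r ∈ a ^ m, r • x ∈ I ^ (n + 1) • (⊤ : Submodule A (M (n + 1)))) ∧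
      (∀ n (y : M n), ∃ m : ℕ, ∀ r ∈ a ^ m, r • y ∈ LinearMap.range (g n)) ∧
      Nonempty (F ≅ Functor.ofOpSequence
        (X := fun n => (Scheme.Modules.restrictFunctor (LocCoh.puncturedOpen A a).ι).obj (Formal2.tmod A (M n)))
        (fun n => (Scheme.Modules.restrictFunctor (LocCoh.puncturedOpen A a).ι).map (Formal2.tmodMap A (g n)))) := by
  obtain ⟨hc, hk, hq⟩ := hF
  obtain ⟨M, hfin, htr, htor⟩ := exists_models hc
  let g : ∀ n, M (n + 1) →ₗ[A] M n := fun n => (tr F n).restrict (htr n)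
  let ι : ∀ n, ModuleCat.of (CommRingCat.of A) (M n) ⟶ (secF a).obj (F.obj (op n)) := fun n =>
    ConcreteCategory.ofHom (M n).subtype
  have hι : ∀ n, TorIso a (ι n) := fun n =>
    ⟨fun x hx => ⟨0, fun r _ => by rw [show x = 0 from Subtype.ext hx, smul_zero]⟩, fun y => by
      obtain ⟨m, hm⟩ := htor n y
      exact ⟨m, fun r hr => ⟨⟨_, hm r hr⟩, rfl⟩⟩⟩
  haveI hχ : ∀ n, IsIso ((tR a).map (ι n) ≫ (adjT a).counit.app (F.obj (op n))) := fun n => by
    haveI := isIso_tR_map (ι n) (hι n)
    haveI := isIso_counit (F.obj (op n)) (hc n).1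
    infer_instance
  let χ : ∀ n, (tR a).obj (ModuleCat.of A (M n)) ≅ F.obj (op n) := fun n =>
    asIso ((tR a).map (ι n) ≫ (adjT a).counit.app (F.obj (op n)))
  let γ : ∀ n, ModuleCat.of (CommRingCat.of A) (M (n + 1)) ⟶ ModuleCat.of (CommRingCat.of A) (M n) := fun n =>
    ModuleCat.ofHom (g n)
  have hsq : ∀ n, (tR a).map (γ n) ≫ (χ n).hom = (χ (n + 1)).hom ≫ F.map (homOfLE (Nat.le_succ n)).op := fun n => by
    have h1 : γ n ≫ ι n = ι (n + 1) ≫ (secF a).map (F.map (homOfLE (Nat.le_succ n)).op) :=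
      ModuleCat.hom_ext (LinearMap.ext fun _ => rfl)
    have h2 := (adjT a).counit.naturality (F.map (homOfLE (Nat.le_succ n)).op)
    simp only [χ, asIso_hom]
    rw [← Category.assoc, ← Functor.map_comp, h1, Functor.map_comp, Category.assoc, Category.assoc]
    exact congrArg _ h2
  have hquot : ∀ n, IsQuot (I ^ (n + 1)) ((tR a).map (γ n)) := fun n => by
    obtain ⟨w, hw⟩ := hq n
    refine ((isQuot_iso_comp (isQuot_of_isIso_desc w hw) (χ (n + 1))).comp_iso (χ n).symm).of_eq ?_
    rw [Iso.symm_hom, ← hsq n, Category.assoc, Iso.hom_inv_id, Category.comp_id]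
  refine ⟨fun n => M n, fun n => inferInstance, fun n => inferInstance, g, hfin, fun n => ?_, fun n x hx => ?_,
    fun n y => ?_, ?_⟩
  · refine eq_bot_iff.2 (Submodule.smul_le.2 fun r hr x _ => Subtype.ext ?_)
    show r • (x : (secF a).obj (F.obj (op n))) = 0
    rw [← secF_map_smulMod, hk n r hr, Functor.map_zero]
    rfl
  · let L : Submodule A (M (n + 1)) := I ^ (n + 1) • ⊤
    have hle : L ≤ LinearMap.ker (g n) := Submodule.smul_le.2 fun r hr z _ => LinearMap.mem_ker.2 <| by
      rw [map_smul]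
      refine Subtype.ext ?_
      show r • ((g n z : M n) : (secF a).obj (F.obj (op n))) = 0
      rw [← secF_map_smulMod, hk n r hr, Functor.map_zero]
      rfl
    let p : ModuleCat.of (CommRingCat.of A) (M (n + 1)) ⟶ ModuleCat.of (CommRingCat.of A) (M (n + 1) ⧸ L) :=
      ModuleCat.ofHom L.mkQ
    let d : ModuleCat.of (CommRingCat.of A) (M (n + 1) ⧸ L) ⟶ ModuleCat.of (CommRingCat.of A) (M n) :=
      ModuleCat.ofHom (L.liftQ (g n) hle)
    have hp := isQuot_tR (I := a) (I ^ (n + 1)) _ _ p L.mkQ_surjective L.ker_mkQ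
    obtain ⟨e, he⟩ := hp.exists_iso (hquot n)
    have hd : (tR a).map d = e.hom := hp.hom_ext (by
      rw [he, ← Functor.map_comp]; rfl)
    have hdi : IsIso ((tR a).map d) := by rw [hd]; infer_instance
    obtain ⟨m, hm⟩ := (torIso_of_isIso (a := a) d hdi).1 (L.mkQ x) (by
      show L.liftQ (g n) hle (L.mkQ x) = 0
      exact hx)
    exact ⟨m, fun r hr => (Submodule.Quotient.mk_eq_zero L).1 (by rw [← hm r hr]; rfl)⟩
  · haveI := (hquot n).epi
    let L : Submodule A (M n) := LinearMap.range (g n)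
    let q : ModuleCat.of (CommRingCat.of A) (M n) ⟶ ModuleCat.of (CommRingCat.of A) (M n ⧸ L) :=
      ModuleCat.ofHom L.mkQ
    haveI : Functor.PreservesZeroMorphisms (tR a) := inferInstanceAs
      (Functor.PreservesZeroMorphisms (tilde.functor (CommRingCat.of A) ⋙ Scheme.Modules.restrictFunctor _))
    have h0 : (tR a).map q = 0 := by
      rw [← cancel_epi ((tR a).map (γ n)), ← Functor.map_comp, comp_zero,
        show γ n ≫ q = 0 from ModuleCat.hom_ext (LinearMap.ext fun z =>
          (Submodule.Quotient.mk_eq_zero L).2 (LinearMap.mem_range_self _ z)), Functor.map_zero]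
    haveI : Epi q := (ModuleCat.epi_iff_surjective _).2 L.mkQ_surjective
    haveI := ComplFormalH7.tildeR_epi (R := CommRingCat.of A) (LocCoh.puncturedOpen A a) q
    have hz : IsZero ((tR a).obj (ModuleCat.of (CommRingCat.of A) (M n ⧸ L))) := IsZero.of_epi_eq_zero _ h0
    let z : ModuleCat.of (CommRingCat.of A) (M n ⧸ L) ⟶ ModuleCat.of (CommRingCat.of A) (PUnit.{u + 1}) := 0
    haveI hz' : IsIso ((tR a).map z) := by
      refine IsZero.isIso hz ((tR a).map_isZero ?_) _
      exact ModuleCat.isZero_of_subsingleton _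
    obtain ⟨m, hm⟩ := (torIso_of_isIso z hz').1 (L.mkQ y) rfl
    exact ⟨m, fun r hr => (Submodule.Quotient.mk_eq_zero L).1 (by rw [← hm r hr]; rfl)⟩
  · refine ⟨(NatIso.ofComponents (fun n => (χ n.unop).symm) ?_)⟩
    let G' := Functor.ofOpSequence
        (X := fun n => (Scheme.Modules.restrictFunctor (LocCoh.puncturedOpen A a).ι).obj (Formal2.tmod A (M n)))
        (fun n => (Scheme.Modules.restrictFunctor (LocCoh.puncturedOpen A a).ι).map (Formal2.tmodMap A (g n)))
    let α : F ⟶ G' := NatTrans.ofOpSequence (fun n => (χ n).inv) fun n => by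
      rw [show G'.map (homOfLE (Nat.le_add_right n 1)).op = (tR a).map (γ n) from Functor.ofOpSequence_map_homOfLE_succ _ n]
      show F.map _ ≫ (χ n).inv = (χ (n + 1)).inv ≫ _
      rw [Iso.comp_inv_eq, Category.assoc]
      exact ((Iso.inv_comp_eq _).2 (hsq n)).symm
    intro i j f
    exact α.naturality f

end Groth.Agent.PunctModH7
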